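import Groth.Prelude.Def_Canon
import Groth.Prelude.Def_RedSub
import Groth.Agent.L15.OmegaCoh
import Groth.Agent.L22.CurveDeg.Det.ExtPow
import Groth.Agent.L18.Ample
import Groth.Agent.L19.LocFreeDescent
import Groth.Agent.L16.ProjSpace.Basic
import Mathlib.RingTheory.Smooth.StandardSmoothCotangent

/-!
# The relative canonical sheaf of a smooth locally projective morphism
-/

set_option autoImplicit false
set_option linter.style.haveILetI false
set_option backward.isDefEq.respectTransparency.types false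
set_option backward.isDefEq.respectTransparency false

universe u

open CategoryTheory CategoryTheory.Limits AlgebraicGeometry

noncomputable section

namespace Groth.L02.Canon

variable {X S : Scheme.{u}} {f : X ⟶ S}

theorem isProper_of_isLocallyProjective (h : RedSub.IsLocallyProjective (Over.mk f)) : IsProper f := by
  choose V hsV n e he hfac using h
  refine IsZariskiLocalAtTarget.of_iSup_eq_top V (TopologicalSpace.Opens.ext ?_) fun s => ?_
  · exact Set.eq_univ_of_forall fun s => TopologicalSpace.Opens.mem_iSup.mpr ⟨s, hsV s⟩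
  · haveI := he s
    haveI : IsProper (pullback.snd f (V s).ι) := by
      rw [show pullback.snd f (V s).ι = e s ≫ CohB1.ProjSpaceOver.toBase (n s) _ from (hfac s).symm]
      infer_instance
    rw [show f ∣_ (V s) = (pullbackRestrictIsoRestrict f (V s)).inv ≫ pullback.snd f (V s).ι from rfl]
    infer_instance

theorem isFinLocFreeOfRank_omega [QuasiSeparated f] (n : ℕ) [SmoothOfRelativeDimension n f] :
    FlatMod.IsFinLocFreeOfRank n (Omega.sheaf f) := by
  intro x
  obtain ⟨V, hV, U, hU, hxU, e, hf⟩ :=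
    SmoothOfRelativeDimension.exists_isStandardSmoothOfRelativeDimension (n := n) (f := f) x
  letI : Algebra Γ(S, V) Γ(X, U) := (f.appLE V U e).hom.toAlgebra
  haveI : Algebra.IsStandardSmoothOfRelativeDimension n Γ(S, V) Γ(X, U) := hf
  haveI : Algebra.IsStandardSmooth Γ(S, V) Γ(X, U) :=
    Algebra.IsStandardSmoothOfRelativeDimension.isStandardSmooth n
  haveI : Nontrivial Γ(X, U) := (X.presheaf.germ U x hxU).hom.domain_nontrivial
  haveI : Module.Finite Γ(X, U) Ω[Γ(X, U)⁄Γ(S, V)] := inferInstance
  haveI : Module.Free Γ(X, U) Ω[Γ(X, U)⁄Γ(S, V)] := inferInstance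
  obtain ⟨i, -⟩ := Groth.L19.OmegaSh.exists_chart_affine
    (Groth.L19.OmegaSh.isUniversal_dOmega (f := f)) hU hV e
  let b := Module.finBasisOfFinrankEq Γ(X, U) Ω[Γ(X, U)⁄Γ(S, V)] (Module.finrank_eq_of_rank_eq
    (Algebra.IsStandardSmoothOfRelativeDimension.rank_kaehlerDifferential (R := Γ(S, V)) (S := Γ(X, U)) n))
  let j : (Omega.sheaf f).restrict hU.fromSpec ≅ FlatMod.freeMod (Spec Γ(X, U)) n :=
    i ≪≫ (tilde.functor Γ(X, U)).mapIso (b.reindex Equiv.ulift.symm).repr.toModuleIso ≪≫
      Groth.L19.PullChart.freeTildeIso Γ(X, U) n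
  exact ⟨hU.fromSpec.opensRange, by rw [hU.opensRange_fromSpec]; exact hxU,
    Groth.L19.PullChart.exists_free_of_chart _ _ j⟩

theorem isInvertible_topDiff [QuasiSeparated f] {n : ℕ} [SmoothOfRelativeDimension n f] {ω : X.Modules}
    (hω : Canon.IsTopDiff f n ω) : PicF.IsInvertible ω := by
  obtain ⟨φ, hφ⟩ := hω
  exact Groth.L22.CurveDeg.Det.isInvertible_of_extPow φ hφ (isFinLocFreeOfRank_omega n)

theorem isInvertible_pluri [QuasiSeparated f] {n : ℕ} [SmoothOfRelativeDimension n f] {ω : X.Modules}
    (hω : Canon.IsTopDiff f n ω) (m : ℕ) : PicF.IsInvertible (CohB1.tensorPow ω m) :=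
  Groth.L18.Ample.isInvertible_tensorPow (isInvertible_topDiff hω) m

end Groth.L02.Canon
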