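import Groth.Agent.L02.Canon.Basic
import Groth.Agent.L08.Cube.SeesawH0
import Groth.Agent.L26.AV.SmoothField
import Groth.Agent.L16.QcqsPush
import Groth.Agent.L19.LocFreeDescent
import Groth.Agent.L20.DescLocus.Main
import Groth.Agent.L22.CurveDeg.Det.Main

/-!
# Direct images of invertible modules coming from the base
-/

set_option autoImplicit false
set_option linter.style.haveILetI false
set_option linter.unusedSectionVars false
set_option backward.isDefEq.respectTransparency false
set_option backward.isDefEq.respectTransparency.types false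

universe u

open CategoryTheory CategoryTheory.Limits AlgebraicGeometry TopologicalSpace

noncomputable section

namespace Groth.L02.Canon

open Groth.L18.Frame (rs ro IsFrame pull)

variable {X S : Scheme.{u}} (f : X ⟶ S)

/-- Functions on geometrically connected and reduced proper fibres are constants. -/
theorem const_fibres [IsProper f] [GeometricallyConnected f] [GeometricallyReduced f] (b : S) :
    Function.Bijective (algebraMap (S.residueField b) Γ(f.fiber b, ⊤)) := by
  haveI : ConnectedSpace (f.fiber b) := inferInstance
  haveI : Nonempty (f.fiber b) := ConnectedSpace.toNonempty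
  let q := f.fiberToSpecResidueField b
  have hq : IsPullback (f.fiberι b) q f (S.fromSpecResidueField b) := IsPullback.of_hasPullback _ _
  haveI : UniversallyClosed q := MorphismProperty.of_isPullback hq (inferInstance : UniversallyClosed f)
  haveI : QuasiSeparated q := MorphismProperty.of_isPullback hq (inferInstance : QuasiSeparated f)
  haveI : GeometricallyConnected q := MorphismProperty.of_isPullback hq ‹GeometricallyConnected f›
  haveI : GeometricallyReduced q := MorphismProperty.of_isPullback hq ‹GeometricallyReduced f›
  exact Groth.L08.Cube.bijective_toGlobal_of_geometric (k := S.residueField b) (f.fiberToSpecResidueField b)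

/-- A module whose pullback along a faithfully flat quasi-compact morphism is invertible is finite
locally free of rank one. -/
theorem isFinLocFreeOfRank_one_of_pullback [Flat f] [Surjective f] [QuasiCompact f] (F : S.Modules)
    [Coh.IsQCoh F] (h : PicF.IsInvertible ((Scheme.Modules.pullback f).obj F)) :
    FlatMod.IsFinLocFreeOfRank 1 F := by
  have h1 := Groth.L22.CurveDeg.Det.isFinLocFreeOfRank_one_of_isInvertible h
  intro s
  obtain ⟨U, n, hsU, ⟨e⟩⟩ := Groth.L19.PullChart.isFinLocFree_of_pullback f F
    (fun x => let ⟨W, hW, i⟩ := h1 x; ⟨W, 1, hW, i⟩) s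
  obtain ⟨x, rfl⟩ := f.surjective s
  obtain ⟨W, hxW, ⟨i⟩⟩ := h1 x
  have hn : n = 1 := Groth.L20.DescLocus.rk_unique F (W.ι ≫ f) ⟨x, hxW⟩
    (((Scheme.Modules.pullbackComp W.ι f).app F).symm ≪≫
      ((Scheme.Modules.restrictFunctorIsoPullback W.ι).app _).symm ≪≫ i)
    (Opens.mem_sSup.2 ⟨U, ⟨((Scheme.Modules.restrictFunctorIsoPullback _).app F).symm ≪≫ e⟩, hsU⟩)
  subst hn
  exact ⟨U, hsU, ⟨e⟩⟩

/-- The unit at an invertible module, when functions come from the base. -/
theorem isIso_unit_of_isInvertible (happ : ∀ V : S.Opens, Function.Bijective (f.app V)) (N : S.Modules)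
    (hN : PicF.IsInvertible N) :
    IsIso ((Scheme.Modules.pullbackPushforwardAdjunction f).unit.app N) := by
  choose U τ hbU hτ using fun b => Groth.L18.Frame.exists_frame hN b
  refine Groth.L21.Mod.isIso_of_restrict_opens (fun b => U b)
    (Opens.ext (Set.eq_univ_of_forall fun b => by
      rw [Opens.coe_iSup, Set.mem_iUnion]; exact ⟨b, hbU b⟩)) _ fun b => ?_
  refine Groth.L08.Cube.isIso_restrict_of_frame _ (hτ b) ?_
  exact fun V h => ((hτ b).pullback f N (f ⁻¹ᵁ V) (f.preimage_mono h)).comp (happ V)

variable [IsProper f] [Flat f] [GeometricallyConnected f] [GeometricallyReduced f] [IsLocallyNoetherian S]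

theorem bijective_app (V : S.Opens) : Function.Bijective (f.app V) :=
  Groth.L08.Cube.bijective_app_of_const f (const_fibres f) V

theorem isFinLocFreeOfRank_one_pushforward (L : X.Modules) (hL : PicF.IsInvertible L)
    [IsIso ((Scheme.Modules.pullbackPushforwardAdjunction f).counit.app L)] :
    FlatMod.IsFinLocFreeOfRank 1 ((Scheme.Modules.pushforward f).obj L) := by
  haveI : Surjective f := ⟨fun s => by
    haveI : ConnectedSpace (f.fiber s) := inferInstance
    exact ⟨f.fiberι s (ConnectedSpace.toNonempty (α := f.fiber s)).some, by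
      have h : f.fiberι s (ConnectedSpace.toNonempty (α := f.fiber s)).some ∈ Set.range (f.fiberι s) := ⟨_, rfl⟩
      rwa [Scheme.Hom.range_fiberι] at h⟩⟩
  haveI := Groth.L21.Extend.isQCoh_of_isInvertible hL
  haveI : Coh.IsQCoh ((Scheme.Modules.pushforward f).obj L) := Groth.L16.QcqsPush.isQCoh_push L f
  exact isFinLocFreeOfRank_one_of_pullback f _ (Groth.L18.Ample.isInvertible_of_iso
    (asIso ((Scheme.Modules.pullbackPushforwardAdjunction f).counit.app L)).symm hL)

end Groth.L02.Canon
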