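import Groth.Agent.L02.Canon.FlatBc0
import Groth.Agent.L02.Canon.Pushforward
import Groth.Agent.L20.DescLocus.AppIso
import Groth.Agent.L03.ShStab.BC
import Groth.Agent.L21.RR.Coh
import Groth.Agent.L21.Bundle.Lines

/-!
# Invertible modules coming from the base: Zariski and flat descent
-/

set_option autoImplicit false
set_option linter.style.haveILetI false
set_option linter.unusedSectionVars false
set_option backward.isDefEq.respectTransparency false
set_option backward.isDefEq.respectTransparency.types false

universe u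

open CategoryTheory CategoryTheory.Limits AlgebraicGeometry TopologicalSpace Opposite

noncomputable section

namespace Groth.L02.Canon.DescInvertible

open Groth.L18.Frame (rs IsFrame pull restrict_smul')

/-- A frame from a trivialisation over an open. -/
theorem exists_frame_of_iso {X : Scheme.{u}} {L : X.Modules} (U : X.Opens)
    (φ : (Scheme.Modules.pullback U.ι).obj L ≅ Coh.structureModule (U : Scheme.{u})) :
    ∃ e : Γ(L, U), IsFrame L U e := by
  obtain ⟨φ⟩ : Nonempty (L.restrict U.ι ≅ Coh.structureModule (U : Scheme.{u})) :=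
    ⟨(Scheme.Modules.restrictFunctorIsoPullback U.ι).app L ≪≫ φ⟩
  suffices h : IsFrame L (U.ι ''ᵁ ⊤) (φ.inv.app ⊤ (1 : Γ(U.toScheme, ⊤))) from
    ⟨rs L U.ι_image_top.ge _, h.mono U.ι_image_top.ge⟩
  intro V h
  obtain ⟨V, rfl⟩ : ∃ V' : U.toScheme.Opens, U.ι ''ᵁ V' = V := ⟨U.ι ⁻¹ᵁ V, by
    rw [Scheme.Hom.image_preimage_eq_opensRange_inf, Scheme.Opens.opensRange_ι, inf_eq_right]
    exact h.trans_eq U.ι_image_top⟩
  have key : (fun a : Γ(X, U.ι ''ᵁ V) => a • rs L h (φ.inv.app ⊤ (1 : Γ(U.toScheme, ⊤)))) =
      fun a : Γ(U.toScheme, V) => φ.inv.app V a := by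
    funext a
    have h1 : rs L h (φ.inv.app ⊤ (1 : Γ(U.toScheme, ⊤))) = φ.inv.app V (1 : Γ(U.toScheme, V)) := by
      have := congr($(φ.inv.mapPresheaf.naturality (homOfLE (le_top : V ≤ ⊤)).op) (1 : Γ(U.toScheme, ⊤)))
      refine Eq.trans ?_ (this.symm.trans (congrArg (φ.inv.app V) (map_one (U.toScheme.presheaf.map (homOfLE (le_top : V ≤ ⊤)).op).hom)))
      rfl
    rw [h1]
    have h2 := φ.inv.app_smul (U := V) (show Γ(U.toScheme, V) from a) (1 : Γ(U.toScheme, V))
    refine Eq.trans ?_ ((congrArg (φ.inv.app V) (show ((show Γ(U.toScheme, V) from a) • (1 : Γ(U.toScheme, V))) = a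
      from mul_one _)).symm.trans h2).symm
    exact (restrict_smul' L U V a _).symm
  show Function.Bijective fun a : Γ(X, U.ι ''ᵁ V) => _
  rw [key]
  exact ConcreteCategory.bijective_of_isIso (φ.inv.app V)

section Zariski

variable {X S : Scheme.{u}} (f : X ⟶ S)

/-- A module trivial locally over the base comes from the base. -/
theorem exists_of_local (hf : ∀ U : S.Opens, Function.Bijective (f.app U)) (L : X.Modules)
    (hloc : ∀ s : S, ∃ U : S.Opens, s ∈ U ∧
      Nonempty ((Scheme.Modules.pullback (f ⁻¹ᵁ U).ι).obj L ≅ Coh.structureModule (f ⁻¹ᵁ U))) :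
    ∃ N : S.Modules, PicF.IsInvertible N ∧ Nonempty (L ≅ (Scheme.Modules.pullback f).obj N) := by
  obtain ⟨hN, hε⟩ := Groth.L08.Cube.pushforward_of_frames f hf L fun s => by
    obtain ⟨U, hsU, ⟨φ⟩⟩ := hloc s
    obtain ⟨e, he⟩ := exists_frame_of_iso _ φ
    exact ⟨U, e, hsU, he⟩
  exact ⟨_, hN, ⟨(asIso ((Scheme.Modules.pullbackPushforwardAdjunction f).counit.app L)).symm⟩⟩

end Zariski

/-- An epimorphism of invertible modules is an isomorphism. -/
theorem isIso_of_epi_invertible {Z : Scheme.{u}} {A B : Z.Modules} (φ : A ⟶ B) [Epi φ]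
    (hA : PicF.IsInvertible A) (hB : PicF.IsInvertible B) : IsIso φ := by
  haveI : Mono φ := by
    refine (Groth.L21.Mod.mono_iff_stalk_injective φ).2 fun z => ?_
    obtain ⟨a, ha⟩ := Groth.L21.RR.exists_frame_stalk hA z
    obtain ⟨b, hb⟩ := Groth.L21.RR.exists_frame_stalk hB z
    obtain ⟨r, hr⟩ := hb.2 (Groth.L21.RR.st φ z a)
    have hsurj := (Groth.L21.Mod.epi_iff_stalk_surjective φ).1 inferInstance z
    obtain ⟨v, hv⟩ := hsurj b
    obtain ⟨c, rfl⟩ := ha.2 v
    have hφc : Groth.L21.RR.st φ z (c • a) = b := hv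
    have hcr : c * r = 1 := hb.1 (by
      show (c * r) • b = (1 : Z.presheaf.stalk z) • b
      rw [mul_smul, one_smul, show r • b = Groth.L21.RR.st φ z a from hr, ← map_smul, hφc])
    intro v w hvw
    obtain ⟨x, rfl⟩ := ha.2 v
    obtain ⟨y, rfl⟩ := ha.2 w
    have h1 : Groth.L21.RR.st φ z (x • a) = Groth.L21.RR.st φ z (y • a) := hvw
    rw [map_smul, map_smul, ← show r • b = Groth.L21.RR.st φ z a from hr, ← mul_smul, ← mul_smul] at h1
    have h2 : x * r = y * r := hb.1 h1
    have hru : IsUnit r := IsUnit.of_mul_eq_one (a := r) c (by rw [mul_comm, hcr])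
    rw [hru.mul_right_cancel h2]
  exact isIso_of_mono_of_epi φ

section Flat

variable {X S X' S' : Scheme.{u}} {f : X ⟶ S} {g : S' ⟶ S} {f' : X' ⟶ S'} {g' : X' ⟶ X}
  [IsSeparated f] [QuasiCompact f] [Flat g]

/-- Functions still come from the base after a flat base change. -/
theorem bijective_app_of_flat (pb : IsPullback g' f' f g)
    (hf : ∀ U : S.Opens, Function.Bijective (f.app U)) (V : S'.Opens) : Function.Bijective (f'.app V) := by
  haveI : IsIso (ClSub.unitToPush f') := by
    let O := Coh.structureModule S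
    haveI := Groth.L02.Canon.isIso_unit_of_isInvertible f hf O (Groth.L18.Ample.isInvertible_structureModule S)
    haveI : Coh.IsQCoh ((Scheme.Modules.pullback f).obj O) :=
      Groth.L21.Extend.isQCoh_of_isInvertible
        (Groth.L18.Ample.isInvertible_pullback f (Groth.L18.Ample.isInvertible_structureModule S))
    haveI := FlatBc0.isIso_bc0 pb ((Scheme.Modules.pullback f).obj O)
    haveI : IsIso ((Scheme.Modules.pullbackPushforwardAdjunction f').unit.app ((Scheme.Modules.pullback g).obj O)) := by
      rw [← Groth.L20.DescLocus.unit_bc0 f g f' g' pb.w O]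
      infer_instance
    haveI : IsIso ((Scheme.Modules.pullbackPushforwardAdjunction f').unit.app (Coh.structureModule S')) := by
      have h := (Scheme.Modules.pullbackPushforwardAdjunction f').unit.naturality (Groth.L29.LocFree.pullbackUnitIso g).hom
      simp only [Functor.id_map] at h
      exact IsIso.of_isIso_fac_left h
    rw [← Groth.L20.DescLocus.unit_structure f']
    infer_instance
  exact (ConcreteCategory.isIso_iff_bijective _).1 (Groth.L20.DescLocus.app_isIso_of_isIso_unitToPush f' V)

/-- Flat descent for the property of coming from the base. -/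
theorem exists_of_flat [Surjective g] [QuasiCompact g] (pb : IsPullback g' f' f g)
    (hf : ∀ U : S.Opens, Function.Bijective (f.app U)) (L : X.Modules) (hL : PicF.IsInvertible L)
    (N' : S'.Modules) (hN' : PicF.IsInvertible N') (e : (Scheme.Modules.pullback g').obj L ≅ (Scheme.Modules.pullback f').obj N') :
    ∃ N : S.Modules, PicF.IsInvertible N ∧ Nonempty (L ≅ (Scheme.Modules.pullback f).obj N) := by
  haveI : Flat g' := MorphismProperty.of_isPullback pb.flip inferInstance
  haveI : Surjective g' := MorphismProperty.of_isPullback pb.flip ‹Surjective g›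
  haveI := Groth.L21.Extend.isQCoh_of_isInvertible hL
  haveI := FlatBc0.isIso_bc0 pb L
  have hu : IsIso ((Scheme.Modules.pullbackPushforwardAdjunction f').unit.app N') :=
    Groth.L02.Canon.isIso_unit_of_isInvertible f' (bijective_app_of_flat pb hf) N' hN'
  haveI := hu
  haveI : IsIso ((Scheme.Modules.pullbackPushforwardAdjunction f').counit.app ((Scheme.Modules.pullback f').obj N')) :=
    IsIso.of_isIso_fac_left ((Scheme.Modules.pullbackPushforwardAdjunction f').left_triangle_components N')
  haveI : IsIso ((Scheme.Modules.pullbackPushforwardAdjunction f').counit.app ((Scheme.Modules.pullback g').obj L)) := by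
    have h := (Scheme.Modules.pullbackPushforwardAdjunction f').counit.naturality e.hom
    simp only [Functor.id_map] at h
    exact IsIso.of_isIso_fac_right h.symm
  -- the direct image is invertible
  let N := (Scheme.Modules.pushforward f).obj L
  haveI : Coh.IsQCoh N := Groth.L16.QcqsPush.isQCoh_push L f
  have hgN : PicF.IsInvertible ((Scheme.Modules.pullback g).obj N) :=
    Groth.L18.Ample.isInvertible_of_iso (asIso ((Scheme.Modules.pullbackPushforwardAdjunction f').unit.app N') ≪≫
      (Scheme.Modules.pushforward f').mapIso e.symm ≪≫ (asIso (CohBC.bc0 f g f' g' pb.w L)).symm) hN'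
  have hN : PicF.IsInvertible N := Groth.L21.Bundle.isInvertible_of_rank
    (Groth.L02.Canon.isFinLocFreeOfRank_one_of_pullback g N hgN)
  refine ⟨N, hN, ?_⟩
  let ε := (Scheme.Modules.pullbackPushforwardAdjunction f).counit.app L
  haveI : IsIso ((Scheme.Modules.pullback g').map ε) := by
    rw [Groth.L20.DescLocus.pullback_counit f g f' g' pb.w L]
    infer_instance
  haveI : Epi ε := by
    haveI := (Scheme.Modules.pullbackPushforwardAdjunction g').leftAdjoint_preservesColimits
    exact Preadditive.epi_of_isZero_cokernel ε (Groth.L03.ShStab.BC.isZero_of_pullback g'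
      ((isZero_cokernel_of_epi ((Scheme.Modules.pullback g').map ε)).of_iso (PreservesCokernel.iso (Scheme.Modules.pullback g') ε)))
  haveI : IsIso ε := isIso_of_epi_invertible ε (Groth.L18.Ample.isInvertible_pullback f hN) hL
  exact ⟨(asIso ε).symm⟩

end Flat

end Groth.L02.Canon.DescInvertible
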