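import Groth.Agent.L17.BC.Bc0
import Mathlib.RingTheory.Flat.Basic
import Mathlib.AlgebraicGeometry.Morphisms.Flat

/-!
# The degree zero base change map along a flat morphism is an isomorphism
-/

set_option autoImplicit false
set_option linter.style.haveILetI false
set_option linter.unusedSectionVars false
set_option backward.isDefEq.respectTransparency false

universe u

open CategoryTheory CategoryTheory.Limits AlgebraicGeometry TopologicalSpace Opposite
open scoped TensorProduct

noncomputable section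

namespace Groth.L02.Canon.FlatBc0

open Groth.L17 Groth.L17.BC Groth.L17.BC.Classes

section Alg

variable {A B : Type u} [CommRing A] [CommRing B] [Algebra A B] [Module.Flat A B]
  {P₀ P P₂ T T' : Type u} [AddCommGroup P₀] [Module A P₀] [AddCommGroup P] [Module A P]
  [AddCommGroup P₂] [Module A P₂] [AddCommGroup T] [Module A T] [AddCommGroup T'] [Module A T']
  [Module B T'] [IsScalarTower A B T'] {d' : P₀ →ₗ[A] P} {d : P →ₗ[A] P₂} {ψ : T →ₗ[A] T'}

/-- Taking classes of cycles commutes with flat base change. -/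
theorem isBaseChange (D : BCData d' d B ψ) (hdd : d ∘ₗ d' = 0) : IsBaseChange B ψ := by
  let Z := LinearMap.ker d
  let π : P →ₗ[A] LinearMap.range d := d.rangeRestrict
  have hπ : Function.Exact Z.subtype π := LinearMap.exact_iff.2 (by
    rw [LinearMap.ker_rangeRestrict, Submodule.range_subtype])
  have i1 : Function.Injective (Z.subtype.baseChange B) :=
    Module.Flat.lTensor_preserves_injective_linearMap (M := B) _ Z.injective_subtype
  have i2 : Function.Injective ((LinearMap.range d).subtype.baseChange B) :=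
    Module.Flat.lTensor_preserves_injective_linearMap (M := B) _ (LinearMap.range d).injective_subtype
  have cyc : LinearMap.ker (d.baseChange B) ≤ LinearMap.range (Z.subtype.baseChange B) := by
    intro w hw
    have h0 : π.baseChange B w = 0 := i2 (by
      rw [map_zero, ← LinearMap.comp_apply, ← LinearMap.baseChange_comp]
      exact hw)
    exact (lTensor_exact B hπ d.surjective_rangeRestrict w).1 h0
  refine IsBaseChange.of_equiv (LinearEquiv.ofBijective (ψ.liftBaseChange B) ⟨?_, D.span_of_cycles_le cyc⟩)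
    fun x => by simp
  rw [← LinearMap.ker_eq_bot, Submodule.eq_bot_iff]
  intro x hx
  obtain ⟨t, rfl⟩ := LinearMap.lTensor_surjective B D.θ_surj x
  rw [show (LinearMap.lTensor B D.θ) t = D.θ.baseChange B t from rfl, LinearMap.mem_ker,
    D.lift_eq t (BCData.mem_ker_baseChange B d t), D.θ'_ker] at hx
  obtain ⟨u, hu⟩ := hx
  let e : P₀ →ₗ[A] Z := LinearMap.codRestrict Z d' fun v => LinearMap.congr_fun hdd v
  have ht : t = e.baseChange B u := i1 (by
    rw [← LinearMap.comp_apply (Z.subtype.baseChange B), ← LinearMap.baseChange_comp]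
    exact hu.symm)
  show D.θ.baseChange B t = 0
  rw [ht, ← LinearMap.comp_apply, ← LinearMap.baseChange_comp,
    show D.θ ∘ₗ e = 0 from LinearMap.ext fun v => (D.θ_ker _).2 ⟨v, rfl⟩, LinearMap.baseChange_zero]
  rfl

end Alg

variable {X S X' S' : Scheme.{u}} {f : X ⟶ S} {g : S' ⟶ S} {f' : X' ⟶ S'} {g' : X' ⟶ X}
  [IsSeparated f] [QuasiCompact f] [Flat g]

/-- Flat base change in degree zero. -/
theorem isIso_bc0 (pb : IsPullback g' f' f g) (F : X.Modules) [Coh.IsQCoh F] :
    IsIso (CohBC.bc0 f g f' g' pb.w F) := by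
  haveI := PushQCoh.hasInjectiveResolutions X
  haveI := PushQCoh.hasInjectiveResolutions X'
  refine isIso_of_affine _ fun z => ?_
  obtain ⟨_, ⟨V, hV, rfl⟩, hzV, -⟩ :=
    S.isBasis_affineOpens.exists_subset_of_mem_open (a := g z) (Set.mem_univ _) isOpen_univ
  refine ⟨g ⁻¹ᵁ V, hzV, fun V' hle hV' => ?_⟩
  have q : Sq f g f' g' V V' := ⟨hV, hV', hle, pb⟩
  obtain ⟨c⟩ := Effaced.nonempty_cov f hV
  haveI : Coh.IsQCoh (F.restrict (f ⁻¹ᵁ V).ι) := Scheme.Modules.isQuasicoherent_restrictFunctor _ F
  letI : Algebra Γ(S, V) Γ(S', V') := q.φ.hom.toAlgebra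
  haveI : Module.Flat Γ(S, V) Γ(S', V') :=
    HasRingHomProperty.appLE @Flat g inferInstance ⟨V, hV⟩ ⟨V', hV'⟩ hle
  letI : Module Γ(S, V) Γ((Scheme.Modules.pushforward f').obj ((Scheme.Modules.pullback g').obj F), V') :=
    Module.compHom _ (algebraMap Γ(S, V) Γ(S', V'))
  haveI : IsScalarTower Γ(S, V) Γ(S', V')
      Γ((Scheme.Modules.pushforward f').obj ((Scheme.Modules.pullback g').obj F), V') :=
    IsScalarTower.of_algebraMap_smul fun _ _ => rfl
  obtain ⟨ψl, hψ, ⟨D⟩⟩ := q.exists_bcData0 rfl c F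
  have hbc : IsBaseChange Γ(S', V') ψl :=
    isBaseChange D (LinearMap.ext fun x => by
      exact Transfer.dd_zero (KF f hV c F) (((0 : ℕ) : ℤ) - 1) ((0 : ℕ) : ℤ) (((0 : ℕ) : ℤ) + 1) x)
  obtain ⟨e₀⟩ := nonempty_Rpush_zero_iso f F
  haveI := PushQCoh.isQCoh_Rpush f F 0
  haveI : Coh.IsQCoh ((Scheme.Modules.pushforward f).obj F) := Groth.L29.DC.isQCoh_of_iso' e₀ inferInstance
  letI : Module Γ(S, V) Γ((Scheme.Modules.pullback g).obj ((Scheme.Modules.pushforward f).obj F), V') :=
    Module.compHom _ (g.appLE V V' q.le).hom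
  haveI : IsScalarTower Γ(S, V) Γ(S', V')
      Γ((Scheme.Modules.pullback g).obj ((Scheme.Modules.pushforward f).obj F), V') :=
    IsScalarTower.of_algebraMap_smul fun _ _ => rfl
  have hpr : IsBaseChange Γ(S', V') (Groth.L16.AffineBC.pullRes g ((Scheme.Modules.pushforward f).obj F) q.le) :=
    Groth.L16.AffineBC.isBaseChange_pull g ((Scheme.Modules.pushforward f).obj F) q.hV q.hV' q.le
  have key : ∀ x, (CohBC.bc0 f g f' g' q.pb.w F).app V' (hpr.equiv x) = hbc.equiv x := by
    intro x
    induction x using TensorProduct.induction_on with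
    | zero => rw [map_zero, map_zero, map_zero]
    | add a b ha hb => rw [map_add, map_add, map_add, ha, hb]
    | tmul b t =>
      rw [IsBaseChange.equiv_tmul, IsBaseChange.equiv_tmul, hψ, ← bc0_app_pullRes q F t]
      exact (CohBC.bc0 f g f' g' q.pb.w F).app_smul b _
  have : Function.Bijective (fun x => (CohBC.bc0 f g f' g' q.pb.w F).app V' (hpr.equiv x)) := by
    rw [funext key]; exact hbc.equiv.bijective
  exact (Function.Bijective.of_comp_iff _ hpr.equiv.bijective).1 this

end Groth.L02.Canon.FlatBc0
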